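import Groth.Agent.BCDLib.Derived
import Groth.Agent.BCVertLib.Square
import Groth.Agent.FLCLib.Ops
import Groth.Prelude.Def_EtBCD

/-!
# The derived base change morphism computed on complexes

For a commutative square, `θ` is the explicit morphism `g⁻¹ f_* I ⟶ f'_* g'⁻¹ I ⟶ Rf'_* g'⁻¹ I` of the derived
category attached to a complex `I`; on K-injective complexes the base change morphism is an isomorphism iff
`θ` is one.
-/

set_option autoImplicit false
set_option backward.isDefEq.respectTransparency false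
set_option backward.isDefEq.respectTransparency.types false
set_option linter.style.haveILetI false
set_option linter.unusedSectionVars false
set_option maxHeartbeats 1000000

universe u

open CategoryTheory CategoryTheory.Limits AlgebraicGeometry Groth.Agent.KInj

attribute [local instance] HasDerivedCategory.standard

noncomputable section

namespace Groth.Agent.BCDLib

theorem hresEt (X : Scheme.{u}) (K : CochainComplex (EtCoh.Ab X) ℤ) :
    ∃ (I : CochainComplex (EtCoh.Ab X) ℤ) (f : K ⟶ I), I.IsKInjective ∧ QuasiIso f := by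
  haveI : IsGrothendieckAbelian.{u + 1} (EtCoh.Ab X) := inferInstance
  exact hres_of_isGrothendieckAbelian (EtCoh.Ab X) K

theorem hasRpushEt {X Y : Scheme.{u}} (f : X ⟶ Y) : DCoh.HasRpushEt X f :=
  hasRightDerivedFunctor (hresEt X) _

instance additivePull {X Y : Scheme.{u}} (f : X ⟶ Y) : (EtCoh.pull f).Additive :=
  (EtCoh.pullPushAdj f).left_adjoint_additive

instance rightExactPull {X Y : Scheme.{u}} (f : X ⟶ Y) : PreservesFiniteColimits (EtCoh.pull f) := by
  haveI : PreservesColimitsOfSize.{0, 0} (EtCoh.pull f) := (EtCoh.pullPushAdj f).leftAdjoint_preservesColimits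
  exact PreservesColimitsOfSize.preservesFiniteColimits _

/-- The unit of `Rf_*`. -/
abbrev unitR {X Y : Scheme.{u}} (f : X ⟶ Y) [DCoh.HasRpushEt X f] :
    DCoh.pushEtKh X f ⟶ DerivedCategory.Qh ⋙ DCoh.RpushEt X f :=
  (DCoh.pushEtKh X f).totalRightDerivedUnit DerivedCategory.Qh
    (HomotopyCategory.quasiIso (EtCoh.Ab X) (ComplexShape.up ℤ))

/-- Inverse image on the homotopy category of complexes. -/
abbrev pullH {X Y : Scheme.{u}} (g : X ⟶ Y) : HomotopyCategory (EtCoh.Ab Y) (ComplexShape.up ℤ) ⥤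
    HomotopyCategory (EtCoh.Ab X) (ComplexShape.up ℤ) :=
  (EtCoh.pull g).mapHomotopyCategory (ComplexShape.up ℤ)

/-- Direct image on the homotopy category of complexes. -/
abbrev pushH {X Y : Scheme.{u}} (g : X ⟶ Y) : HomotopyCategory (EtCoh.Ab X) (ComplexShape.up ℤ) ⥤
    HomotopyCategory (EtCoh.Ab Y) (ComplexShape.up ℤ) :=
  (EtCoh.push g).mapHomotopyCategory (ComplexShape.up ℤ)

theorem isIso_unitR {X Y : Scheme.{u}} (f : X ⟶ Y) [DCoh.HasRpushEt X f]
    (I : CochainComplex (EtCoh.Ab X) ℤ) [I.IsKInjective] :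
    IsIso ((unitR f).app ((HomotopyCategory.quotient _ (ComplexShape.up ℤ)).obj I)) :=
  isIso_app_of_isKInjective (hresEt X) _ (DCoh.RpushEt X f) _ I

theorem isIso_transpose_iff {C D : Type*} [Category* C] [Category* D] {F : C ⥤ D} {G : D ⥤ C} (a a' : F ⊣ G)
    {P : C} {L : D} (φ : P ⟶ G.obj L) :
    IsIso ((a.homEquiv P L).symm φ) ↔ IsIso ((a'.homEquiv P L).symm φ) := by
  have h : (a.homEquiv P L).symm φ = (a.leftAdjointUniq a').hom.app P ≫ (a'.homEquiv P L).symm φ := by
    rw [Equiv.symm_apply_eq, BCVertLib.homEquiv_leftAdjointUniq_comp, Equiv.apply_symm_apply]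
  rw [h]
  exact isIso_comp_left_iff _ _

section Square

variable {X S X' S' : Scheme.{u}} (f : X ⟶ S) (g : S' ⟶ S) (f' : X' ⟶ S') (g' : X' ⟶ X)
  (w : g' ≫ f = f' ≫ g)

theorem baseChange0_natural {F G : EtCoh.Ab X} (a : F ⟶ G) :
    (EtCoh.pull g).map ((EtCoh.push f).map a) ≫ EtCoh.baseChange0 f g f' g' w G =
      EtCoh.baseChange0 f g f' g' w F ≫ (EtCoh.push f').map ((EtCoh.pull g').map a) := by
  simp only [EtCoh.baseChange0]
  rw [← Adjunction.homEquiv_naturality_left_symm, ← Adjunction.homEquiv_naturality_right_symm]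
  congr 1
  have h1 := (EtBC.pushToPushPull f g f' g' w).naturality a
  simp only [EtBC.pushToPushPull, NatTrans.comp_app, Functor.leftUnitor_inv_app, Functor.whiskerRight_app,
    Functor.associator_hom_app, Functor.whiskerLeft_app] at h1
  simpa using h1

/-- The base change morphism on sheaves, as a natural transformation. -/
def bc0N : EtCoh.push f ⋙ EtCoh.pull g ⟶ EtCoh.pull g' ⋙ EtCoh.push f' where
  app F := EtCoh.baseChange0 f g f' g' w F
  naturality _ _ a := baseChange0_natural f g f' g' w a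

/-- The base change morphism on the homotopy category of complexes. -/
def bc0H (K : HomotopyCategory (EtCoh.Ab X) (ComplexShape.up ℤ)) :
    (pullH g).obj ((pushH f).obj K) ⟶ (pushH f').obj ((pullH g').obj K) :=
  (HomotopyCategory.quotient _ _).map ((NatTrans.mapHomologicalComplex (bc0N f g f' g' w) _).app K.as)

theorem pullH_map_ptpp_counit (K : HomotopyCategory (EtCoh.Ab X) (ComplexShape.up ℤ)) :
    (pullH g).map ((EtBC.pushToPushPullH f g f' g' w).app K) ≫
        (homotopyAdjunction (EtCoh.pullPushAdj g)).counit.app ((pushH f').obj ((pullH g').obj K)) =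
      bc0H f g f' g' w K := by
  obtain ⟨C, rfl⟩ := HomotopyCategory.quotient_obj_surjective K
  let P := (NatTrans.mapHomologicalComplex (EtBC.pushToPushPull f g f' g' w) (ComplexShape.up ℤ)).app C
  have h1 : (EtBC.pushToPushPullH f g f' g' w).app ((HomotopyCategory.quotient _ _).obj C) =
      (HomotopyCategory.quotient _ _).map P := by
    simp only [EtBC.pushToPushPullH, NatTrans.comp_app, Functor.whiskerLeft_app]
    simp [Functor.mapHomotopyCategoryCompIso, P]
    rfl
  rw [h1]
  refine ((HomotopyCategory.quotient _ _).map_comp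
    (((EtCoh.pull g).mapHomologicalComplex (ComplexShape.up ℤ)).map P) _).symm.trans ?_
  refine congrArg (HomotopyCategory.quotient _ _).map ?_
  refine HomologicalComplex.hom_ext _ _ fun n => ?_
  show (EtCoh.pull g).map ((EtBC.pushToPushPull f g f' g' w).app (C.X n)) ≫
      (EtCoh.pullPushAdj g).counit.app _ = EtCoh.baseChange0 f g f' g' w (C.X n)
  rw [EtCoh.baseChange0, Adjunction.homEquiv_counit]
  simp [EtBC.pushToPushPull]

variable [DCoh.HasRpushEt X' f']

/-- `g⁻¹ f_* K ⟶ Rf'_* g'⁻¹ K` for a complex `K`. -/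
def θ (K : HomotopyCategory (EtCoh.Ab X) (ComplexShape.up ℤ)) :
    DerivedCategory.Qh.obj ((pullH g).obj ((pushH f).obj K)) ⟶
      (DCoh.RpushEt X' f').obj (DerivedCategory.Qh.obj ((pullH g').obj K)) :=
  DerivedCategory.Qh.map (bc0H f g f' g' w K) ≫ (unitR f').app ((pullH g').obj K)

variable [PreservesFiniteLimits (EtCoh.pull g')] [PreservesFiniteLimits (EtCoh.pull g)]
  [DCoh.HasRpushEt X f] [DCoh.HasRpushEt S' g]

/-- An adjunction for which the base change morphism is computed by `θ`. -/
theorem exists_adj : ∃ a : EtBC.pullD g ⊣ DCoh.RpushEt S' g,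
    ∀ K : HomotopyCategory (EtCoh.Ab X) (ComplexShape.up ℤ),
      (EtBC.pullD g).map ((unitR f).app K) ≫ EtBC.bcMap f g f' g' w a (DerivedCategory.Qh.obj K) =
        (EtCoh.pull g).mapDerivedCategoryFactorsh.hom.app ((pushH f).obj K) ≫ θ f g f' g' w K ≫
          (DCoh.RpushEt X' f').map ((EtCoh.pull g').mapDerivedCategoryFactorsh.inv.app K) := by
  obtain ⟨a, ha⟩ := exists_derivedAdj (hresEt S') (EtCoh.pullPushAdj g) (DCoh.RpushEt S' g) (unitR g)
  refine ⟨a, fun K => ?_⟩
  have hfac : (unitR f).app K ≫ (EtBC.bcAdj f g f' g' w).app (DerivedCategory.Qh.obj K) =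
      (EtBC.bcUnit f g f' g' w).app K :=
    (DCoh.RpushEt X f).rightDerived_fac_app _ _ _ _ K
  let m := (unitR f').app ((pullH g').obj K) ≫
    (DCoh.RpushEt X' f').map ((EtCoh.pull g').mapDerivedCategoryFactorsh.inv.app K)
  have hu : (EtBC.bcUnit f g f' g' w).app K = DerivedCategory.Qh.map ((EtBC.pushToPushPullH f g f' g' w).app K) ≫
      (unitR g).app ((pushH f').obj ((pullH g').obj K)) ≫ (DCoh.RpushEt S' g).map m := by
    simp [EtBC.bcUnit, m]
  have hstep : (EtBC.pullD g).map ((unitR f).app K) ≫ EtBC.bcMap f g f' g' w a (DerivedCategory.Qh.obj K) =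
      (a.homEquiv _ _).symm ((EtBC.bcUnit f g f' g' w).app K) := by
    exact (a.homEquiv_naturality_left_symm _ _).symm.trans (congrArg _ hfac)
  rw [hstep, hu, ← Category.assoc, Adjunction.homEquiv_naturality_right_symm, Adjunction.homEquiv_counit]
  have hfn := (EtCoh.pull g).mapDerivedCategoryFactorsh.hom.naturality ((EtBC.pushToPushPullH f g f' g' w).app K)
  have hc := ha ((pushH f').obj ((pullH g').obj K))
  rw [Functor.map_comp]
  refine ((congrArg (· ≫ m) ((Category.assoc _ _ _).trans (congrArg (_ ≫ ·) hc))).trans ?_)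
  refine ((congrArg (· ≫ m) ((Category.assoc _ _ _).symm.trans ((congrArg (· ≫ _) hfn).trans
    (Category.assoc _ _ _)))).trans ?_)
  simp only [θ, m, Category.assoc]
  refine congrArg (_ ≫ ·) ?_
  refine (Category.assoc _ _ _).symm.trans (congrArg (· ≫ _) ?_)
  exact (DerivedCategory.Qh.map_comp _ _).symm.trans
    (congrArg DerivedCategory.Qh.map (pullH_map_ptpp_counit f g f' g' w K))

/-- Whether the base change morphism is an isomorphism does not depend on the adjunction or the model. -/
theorem isIso_bcMap_congr (a a' : EtBC.pullD g ⊣ DCoh.RpushEt S' g) {K K' : DCoh.DEt X} (e : K ≅ K') :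
    IsIso (EtBC.bcMap f g f' g' w a K) ↔ IsIso (EtBC.bcMap f g f' g' w a' K') := by
  have hnat : (EtBC.pullD g).map ((DCoh.RpushEt X f).map e.hom) ≫ EtBC.bcMap f g f' g' w a' K' =
      EtBC.bcMap f g f' g' w a' K ≫ (DCoh.RpushEt X' f').map ((EtBC.pullD g').map e.hom) := by
    rw [EtBC.bcMap, EtBC.bcMap, ← Adjunction.homEquiv_naturality_left_symm,
      ← Adjunction.homEquiv_naturality_right_symm]
    exact congrArg _ ((EtBC.bcAdj f g f' g' w).naturality e.hom)
  refine (isIso_transpose_iff a a' _).trans ?_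
  change IsIso (EtBC.bcMap f g f' g' w a' K) ↔ _
  rw [← isIso_comp_right_iff _ ((DCoh.RpushEt X' f').map ((EtBC.pullD g').map e.hom)), ← hnat]
  exact isIso_comp_left_iff _ _

/-- On K-injective complexes the base change morphism is an isomorphism iff `θ` is. -/
theorem isIso_bcMap_iff_θ (a : EtBC.pullD g ⊣ DCoh.RpushEt S' g) (I : CochainComplex (EtCoh.Ab X) ℤ)
    [I.IsKInjective] {K : DCoh.DEt X}
    (e : DerivedCategory.Qh.obj ((HomotopyCategory.quotient _ (ComplexShape.up ℤ)).obj I) ≅ K) :
    IsIso (EtBC.bcMap f g f' g' w a K) ↔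
      IsIso (θ f g f' g' w ((HomotopyCategory.quotient _ (ComplexShape.up ℤ)).obj I)) := by
  obtain ⟨a', ha'⟩ := exists_adj f g f' g' w
  rw [isIso_bcMap_congr f g f' g' w a a' e.symm]
  haveI := isIso_unitR f I
  have h := ha' ((HomotopyCategory.quotient _ (ComplexShape.up ℤ)).obj I)
  rw [← isIso_comp_left_iff ((EtBC.pullD g).map ((unitR f).app
    ((HomotopyCategory.quotient _ (ComplexShape.up ℤ)).obj I)))]
  refine Iff.trans (Iff.of_eq (congrArg IsIso h)) ?_
  exact (isIso_comp_left_iff _ _).trans (isIso_comp_right_iff _ _)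

end Square

end Groth.Agent.BCDLib
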