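import Groth.Agent.KInj.DerivedAdj
import Groth.Agent.KInj.Restrict

/-!
# The derived adjunction of an exact left adjoint, and detection of isomorphisms by exact functors
-/

set_option autoImplicit false
set_option linter.style.haveILetI false
set_option linter.unusedSectionVars false

universe w w' v u v₁ u₁

open CategoryTheory CategoryTheory.Limits Groth.Agent.KInj

namespace Groth.Agent.BCDLib

variable {A : Type u₁} [Category.{v₁} A] [Abelian A] [HasDerivedCategory.{w'} A]
  {B : Type u} [Category.{v} B] [Abelian B] [HasDerivedCategory.{w} B]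

/-- The derived adjunction `F ⊣ RG` of an exact left adjoint, with the formula for its counit. -/
theorem exists_derivedAdj (hres : ∀ K : CochainComplex B ℤ, ∃ (I : CochainComplex B ℤ) (f : K ⟶ I),
      I.IsKInjective ∧ QuasiIso f)
    {F : A ⥤ B} {G : B ⥤ A} (adj : F ⊣ G) [F.Additive] [G.Additive] [PreservesFiniteLimits F]
    [PreservesFiniteColimits F] (RG : DerivedCategory B ⥤ DerivedCategory A)
    (α : G.mapHomotopyCategory (ComplexShape.up ℤ) ⋙ DerivedCategory.Qh ⟶ DerivedCategory.Qh ⋙ RG)
    [RG.IsRightDerivedFunctor α (HomotopyCategory.quasiIso B (ComplexShape.up ℤ))] :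
    ∃ a : F.mapDerivedCategory ⊣ RG, ∀ X,
      F.mapDerivedCategory.map (α.app X) ≫ a.counit.app (DerivedCategory.Qh.obj X) =
        F.mapDerivedCategoryFactorsh.hom.app ((G.mapHomotopyCategory (ComplexShape.up ℤ)).obj X) ≫
          DerivedCategory.Qh.map ((homotopyAdjunction adj).counit.app X) := by
  let lf := F.mapDerivedCategoryFactorsh
  let W₁ := HomotopyCategory.quasiIso A (ComplexShape.up ℤ)
  let W₂ := HomotopyCategory.quasiIso B (ComplexShape.up ℤ)
  haveI := Functor.isLeftDerivedFunctor_of_inverts (W := W₁) F.mapDerivedCategory lf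
  haveI : (F.mapDerivedCategory ⋙ RG).IsLeftDerivedFunctor
      ((Functor.associator _ _ _).inv ≫ Functor.whiskerRight lf.hom RG) W₁ :=
    Functor.isLeftDerivedFunctor_of_inverts (W := W₁) (F.mapDerivedCategory ⋙ RG)
      ((Functor.associator _ _ _).symm ≪≫ Functor.isoWhiskerRight lf RG)
  haveI : (RG ⋙ F.mapDerivedCategory).IsRightDerivedFunctor
      (Functor.whiskerRight α F.mapDerivedCategory ≫ (Functor.associator _ _ _).hom) W₂ :=
    isRightDerivedFunctor_of_isIso_h hres _ _ fun I hI => by
      haveI := hI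
      haveI := isIso_app_of_isKInjective hres _ RG α I
      simp only [NatTrans.comp_app, Functor.associator_hom_app, Functor.whiskerRight_app]
      infer_instance
  exact ⟨(homotopyAdjunction adj).derived W₁ W₂ lf.hom α,
    fun X => (homotopyAdjunction adj).derivedε_fac_app W₂ lf.hom α X⟩

/-- If exact functors jointly reflect isomorphisms, so do the induced functors of derived categories. -/
theorem isIso_of_isIso_mapDerivedCategory {κ : Type*} {C : κ → Type u₁} [∀ i, Category.{v₁} (C i)]
    [∀ i, Abelian (C i)] [∀ i, HasDerivedCategory.{w'} (C i)] (F : ∀ i, B ⥤ C i) [∀ i, (F i).Additive]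
    [∀ i, PreservesFiniteLimits (F i)] [∀ i, PreservesFiniteColimits (F i)]
    (href : ∀ {X Y : B} (a : X ⟶ Y), (∀ i, IsIso ((F i).map a)) → IsIso a)
    {M N : DerivedCategory B} (φ : M ⟶ N) (h : ∀ i, IsIso ((F i).mapDerivedCategory.map φ)) : IsIso φ := by
  let K := DerivedCategory.Q.objPreimage M
  let L := DerivedCategory.Q.objPreimage N
  let eM : DerivedCategory.Q.obj K ≅ M := DerivedCategory.Q.objObjPreimageIso M
  let eN : DerivedCategory.Q.obj L ≅ N := DerivedCategory.Q.objObjPreimageIso N
  obtain ⟨X, s, hs, g, hfac⟩ := DerivedCategory.right_fac (eM.hom ≫ φ ≫ eN.inv)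
  haveI := hs
  suffices IsIso (DerivedCategory.Q.map g) by
    have h1 : IsIso (eM.hom ≫ φ ≫ eN.inv) := by rw [hfac]; infer_instance
    have h2 : φ = eM.inv ≫ (eM.hom ≫ φ ≫ eN.inv) ≫ eN.hom := by simp
    rw [h2]
    infer_instance
  rw [DerivedCategory.isIso_Q_map_iff_quasiIso]
  refine ⟨fun n => ?_⟩
  rw [quasiIsoAt_iff, ShortComplex.quasiIso_iff]
  refine href _ fun i => ?_
  haveI := h i
  have hg : IsIso ((F i).mapDerivedCategory.map (DerivedCategory.Q.map g)) := by
    have h1 : DerivedCategory.Q.map g = DerivedCategory.Q.map s ≫ eM.hom ≫ φ ≫ eN.inv := by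
      rw [hfac, IsIso.hom_inv_id_assoc]
    rw [h1, Functor.map_comp, Functor.map_comp, Functor.map_comp]
    infer_instance
  have hq : IsIso (DerivedCategory.Q.map (((F i).mapHomologicalComplex (ComplexShape.up ℤ)).map g)) :=
    (NatIso.isIso_map_iff (F i).mapDerivedCategoryFactors g).1 hg
  rw [DerivedCategory.isIso_Q_map_iff_quasiIso] at hq
  have hn : IsIso (ShortComplex.homologyMap (((F i).mapShortComplex).map
      ((HomologicalComplex.shortComplexFunctor B (ComplexShape.up ℤ) n).map g))) := by
    have := hq.quasiIsoAt n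
    rw [quasiIsoAt_iff, ShortComplex.quasiIso_iff] at this
    exact this
  exact (NatIso.isIso_map_iff (ShortComplex.homologyFunctorIso (F i))
    ((HomologicalComplex.shortComplexFunctor B (ComplexShape.up ℤ) n).map g)).1 hn

end Groth.Agent.BCDLib
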