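import Groth.Agent.BCDLib.Vcomp
import Groth.Agent.BCVertLib.Local

/-!
# Derived base change along étale morphisms, and locality
-/

set_option autoImplicit false
set_option backward.isDefEq.respectTransparency false
set_option backward.isDefEq.respectTransparency.types false
set_option linter.style.haveILetI false
set_option linter.unusedSectionVars false
set_option maxHeartbeats 1000000

universe u

open CategoryTheory CategoryTheory.Limits AlgebraicGeometry Groth.Agent.KInj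

attribute [local instance] HasDerivedCategory.standard

noncomputable section

namespace Groth.Agent.BCDLib

/-- A K-injective model. -/
theorem exists_model {X : Scheme.{u}} (K : DCoh.DEt X) :
    ∃ I : CochainComplex (EtCoh.Ab X) ℤ, I.IsKInjective ∧
      Nonempty (DerivedCategory.Qh.obj ((HomotopyCategory.quotient _ (ComplexShape.up ℤ)).obj I) ≅ K) :=
  exists_kInjective_iso (hresEt X) K

/-- Inverse image along an étale morphism preserves K-injective complexes. -/
theorem isKInjective_pull_etale {U Y : Scheme.{u}} (j : U ⟶ Y) [Etale j]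
    (I : CochainComplex (EtCoh.Ab Y) ℤ) [I.IsKInjective] :
    CochainComplex.IsKInjective (((EtCoh.pull j).mapHomologicalComplex (ComplexShape.up ℤ)).obj I) := by
  haveI : EtShriek.JCont j := EtJCont.jCont j
  haveI : PreservesFiniteLimits (EtShriek.extZero j) := S0648.result j
  haveI : (EtShriek.restrAlong j).Additive :=
    Functor.additive_of_iso (EtPtsLib.pullIsoRestr j)
  haveI := isKInjective_map_of_adjunction (EtShriek.extZeroAdj j) I
  exact CochainComplex.isKInjective_of_iso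
    ((NatIso.mapHomologicalComplex (EtPtsLib.pullIsoRestr j) (ComplexShape.up ℤ)).app I).symm

section Square

variable {X S X' S' : Scheme.{u}} (f : X ⟶ S) (g : S' ⟶ S) (f' : X' ⟶ S') (g' : X' ⟶ X)
  [Etale g] [DCoh.HasRpushEt X' f']

/-- `θ` of an étale base change is an isomorphism on K-injective complexes. -/
theorem isIso_θ_etale (h : IsPullback g' f' f g) (I : CochainComplex (EtCoh.Ab X) ℤ) [I.IsKInjective] :
    IsIso (θ f g f' g' h.w ((HomotopyCategory.quotient _ (ComplexShape.up ℤ)).obj I)) := by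
  haveI : Etale g' := MorphismProperty.of_isPullback (P := @Etale) h.flip ‹_›
  haveI := isKInjective_pull_etale g' I
  let b := (NatTrans.mapHomologicalComplex (bc0N f g f' g' h.w) (ComplexShape.up ℤ)).app I
  haveI : ∀ n, IsIso (b.f n) := fun n => BCVertLib.isIso_baseChange0_etale f g f' g' h (I.X n)
  haveI : IsIso b := HomologicalComplex.Hom.isIso_of_components b
  haveI : IsIso (bc0H f g f' g' h.w ((HomotopyCategory.quotient _ (ComplexShape.up ℤ)).obj I)) :=
    inferInstanceAs (IsIso ((HomotopyCategory.quotient _ _).map b))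
  haveI : IsIso ((unitR f').app ((pullH g').obj ((HomotopyCategory.quotient _ (ComplexShape.up ℤ)).obj I))) :=
    isIso_unitR f' (((EtCoh.pull g').mapHomologicalComplex (ComplexShape.up ℤ)).obj I)
  exact inferInstanceAs (IsIso (_ ≫ _))

variable [DCoh.HasRpushEt X f] [DCoh.HasRpushEt S' g]
  [PreservesFiniteLimits (EtCoh.pull g')] [PreservesFiniteLimits (EtCoh.pull g)]

/-- Derived base change along an étale morphism. -/
theorem isIso_bcMap_etale (h : IsPullback g' f' f g) (a : EtBC.pullD g ⊣ DCoh.RpushEt S' g) (K : DCoh.DEt X) :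
    IsIso (EtBC.bcMap f g f' g' h.w a K) := by
  obtain ⟨I, hI, ⟨e⟩⟩ := exists_model K
  haveI := hI
  exact (isIso_bcMap_iff_θ f g f' g' h.w a I e).2 (isIso_θ_etale f g f' g' h I)

end Square

/-- A morphism of the derived category which is an isomorphism on the members of a covering is one. -/
theorem isIso_of_covers_D {X : Scheme.{u}} {ι : Type u} (U : ι → X.Etale) (hU : EtCoh.Covers U) {M N : DCoh.DEt X}
    (φ : M ⟶ N) (h : ∀ i, IsIso ((EtBC.pullD (U i).hom).map φ)) : IsIso φ :=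
  isIso_of_isIso_mapDerivedCategory (fun i => EtCoh.pull (U i).hom)
    (fun {_ _} a ha => BCVertLib.isIso_of_covers U hU a ha) φ h

/-- The base change morphism is an isomorphism if it is one after étale localization. -/
theorem isIso_bcMap_of_local {X S Y T : Scheme.{u}} (f : X ⟶ S) (g : T ⟶ S) (h : Y ⟶ X) (e : Y ⟶ T)
    (c : IsPullback e h g f) [PreservesFiniteLimits (EtCoh.pull e)] [PreservesFiniteLimits (EtCoh.pull f)]
    [DCoh.HasRpushEt T g] [DCoh.HasRpushEt Y h] [DCoh.HasRpushEt X f] (adj : EtBC.pullD f ⊣ DCoh.RpushEt X f)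
    (K : DCoh.DEt T)
    {ι : Type u} (U : ι → X.Etale) (hU : EtCoh.Covers U) (V : ι → S.Etale)
    (a : ∀ i, (U i).left ⟶ (V i).left) (ha : ∀ i, a i ≫ (V i).hom = (U i).hom ≫ f)
    (Ti Yi : ι → Scheme.{u}) (gi : ∀ i, Ti i ⟶ (V i).left) (ti : ∀ i, Ti i ⟶ T)
    (cT : ∀ i, IsPullback (ti i) (gi i) g (V i).hom)
    (hi : ∀ i, Yi i ⟶ (U i).left) (ei : ∀ i, Yi i ⟶ Ti i) (cY : ∀ i, IsPullback (ei i) (hi i) (gi i) (a i))
    [∀ i, PreservesFiniteLimits (EtCoh.pull (ei i))] [∀ i, PreservesFiniteLimits (EtCoh.pull (a i))]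
    [∀ i, PreservesFiniteLimits (EtCoh.pull (ti i))]
    [∀ i, DCoh.HasRpushEt (Ti i) (gi i)] [∀ i, DCoh.HasRpushEt (Yi i) (hi i)] [∀ i, DCoh.HasRpushEt (U i).left (a i)]
    (adji : ∀ i, EtBC.pullD (a i) ⊣ DCoh.RpushEt (U i).left (a i))
    (hloc : ∀ i, IsIso (EtBC.bcMap (gi i) (a i) (hi i) (ei i) (cY i).w (adji i) ((EtBC.pullD (ti i)).obj K))) :
    IsIso (EtBC.bcMap g f h e c.w adj K) := by
  obtain ⟨I, hI, ⟨eK⟩⟩ := exists_model K
  haveI := hI
  refine (isIso_bcMap_iff_θ g f h e c.w adj I eK).2 ?_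
  refine isIso_of_covers_D U hU _ fun i => ?_
  haveI : Etale (V i).hom := (V i).prop
  haveI : Etale (U i).hom := (U i).prop
  haveI : ∀ {A B : Scheme.{u}} (f : A ⟶ B), DCoh.HasRpushEt A f := fun f => hasRpushEt f
  have houter : IsPullback (ei i ≫ ti i) (hi i) g (a i ≫ (V i).hom) := (cY i).paste_horiz (cT i)
  let k : Yi i ⟶ Y := c.lift (ei i ≫ ti i) (hi i ≫ (U i).hom)
    (by rw [houter.w, Category.assoc, ha i])
  have hke : k ≫ e = ei i ≫ ti i := c.lift_fst _ _ _
  have hkh : k ≫ h = hi i ≫ (U i).hom := c.lift_snd _ _ _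
  have hk : IsPullback k (hi i) h (U i).hom := by
    refine IsPullback.of_right (t := c) ?_ hkh
    rw [hke, ← ha i]
    exact houter
  have w : (ei i ≫ ti i) ≫ g = hi i ≫ ((U i).hom ≫ f) := by rw [houter.w, ha i]
  obtain ⟨adjU, -⟩ := exists_adj h (U i).hom (hi i) k hk.w
  refine (isIso_θ_vcomp_iff f g h e c.w (U i).hom (hi i) k hk.w rfl hke w adjU _
    (isIso_bcMap_etale h (U i).hom (hi i) k hk adjU _)).1 ?_
  let Ih := (HomotopyCategory.quotient (EtCoh.Ab T) (ComplexShape.up ℤ)).obj I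
  have h2 : IsIso (EtBC.bcMap (gi i) (a i) (hi i) (ei i) (cY i).w (adji i)
      (DerivedCategory.Qh.obj ((pullH (ti i)).obj Ih))) :=
    (isIso_bcMap_congr (gi i) (a i) (hi i) (ei i) (cY i).w (adji i) (adji i)
      ((EtBC.pullD (ti i)).mapIso eK.symm ≪≫ (EtCoh.pull (ti i)).mapDerivedCategoryFactorsh.app Ih)).1 (hloc i)
  refine (isIso_θ_vcomp_iff (V i).hom g (gi i) (ti i) (cT i).w (a i) (hi i) (ei i) (cY i).w (ha i) rfl w
    (adji i) Ih h2).2 ?_
  haveI := isIso_θ_etale g (V i).hom (gi i) (ti i) (cT i) I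
  infer_instance

/-- Pasting of base change isomorphisms. -/
theorem isIso_bcMap_vcomp {X S Y T W Z : Scheme.{u}} (f : X ⟶ S) (g : T ⟶ S) (h : Y ⟶ X) (e : Y ⟶ T)
    (c : IsPullback e h g f) (i : W ⟶ X) (j : Z ⟶ W) (k : Z ⟶ Y) (c' : IsPullback k j h i)
    (c'' : IsPullback (k ≫ e) j g (i ≫ f))
    [PreservesFiniteLimits (EtCoh.pull f)] [PreservesFiniteLimits (EtCoh.pull i)]
    [PreservesFiniteLimits (EtCoh.pull (i ≫ f))] [PreservesFiniteLimits (EtCoh.pull e)]
    [PreservesFiniteLimits (EtCoh.pull k)] [PreservesFiniteLimits (EtCoh.pull (k ≫ e))]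
    [DCoh.HasRpushEt T g] [DCoh.HasRpushEt Y h] [DCoh.HasRpushEt Z j] [DCoh.HasRpushEt X f]
    [DCoh.HasRpushEt W i] [DCoh.HasRpushEt W (i ≫ f)]
    (adj₁ : EtBC.pullD f ⊣ DCoh.RpushEt X f) (adj₂ : EtBC.pullD i ⊣ DCoh.RpushEt W i)
    (adj₃ : EtBC.pullD (i ≫ f) ⊣ DCoh.RpushEt W (i ≫ f)) (K : DCoh.DEt T)
    (h1 : IsIso (EtBC.bcMap g f h e c.w adj₁ K))
    (h2 : IsIso (EtBC.bcMap h i j k c'.w adj₂ ((EtBC.pullD e).obj K))) :
    IsIso (EtBC.bcMap g (i ≫ f) j (k ≫ e) c''.w adj₃ K) := by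
  obtain ⟨I, hI, ⟨eK⟩⟩ := exists_model K
  haveI := hI
  refine (isIso_bcMap_iff_θ g (i ≫ f) j (k ≫ e) c''.w adj₃ I eK).2 ?_
  let Ih := (HomotopyCategory.quotient (EtCoh.Ab T) (ComplexShape.up ℤ)).obj I
  refine (isIso_θ_vcomp_iff f g h e c.w i j k c'.w rfl rfl c''.w adj₂ Ih
    ((isIso_bcMap_congr h i j k c'.w adj₂ adj₂
      ((EtBC.pullD e).mapIso eK.symm ≪≫ (EtCoh.pull e).mapDerivedCategoryFactorsh.app Ih)).1 h2)).2 ?_
  haveI := (isIso_bcMap_iff_θ g f h e c.w adj₁ I eK).1 h1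
  infer_instance

end Groth.Agent.BCDLib
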