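import Groth.Agent.BCDLib.Basic

/-!
# Pasting of derived base change morphisms
-/

set_option autoImplicit false
set_option backward.isDefEq.respectTransparency false
set_option backward.isDefEq.respectTransparency.types false
set_option linter.style.haveILetI false
set_option linter.unusedSectionVars false
set_option maxHeartbeats 1000000

universe u

open CategoryTheory CategoryTheory.Limits AlgebraicGeometry Groth.Agent.KInj Groth.Agent.BCVertLib

attribute [local instance] HasDerivedCategory.standard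

noncomputable section

namespace Groth.Agent.BCDLib

section Sheaf

variable {X S Y T W Z : Scheme.{u}} (f : X ⟶ S) (g : T ⟶ S) (h : Y ⟶ X) (e : Y ⟶ T) (w₁ : e ≫ g = h ≫ f)
  (i : W ⟶ X) (j : Z ⟶ W) (k : Z ⟶ Y) (w₂ : k ≫ h = j ≫ i) (w : (k ≫ e) ≫ g = j ≫ i ≫ f)

/-- Inverse images compose. -/
def pullCompIso {A B C : Scheme.{u}} (a : B ⟶ A) (b : C ⟶ B) :
    EtCoh.pull (b ≫ a) ≅ EtCoh.pull a ⋙ EtCoh.pull b :=
  (EtCoh.pullPushAdj (b ≫ a)).leftAdjointUniq
    (((EtCoh.pullPushAdj a).comp (EtCoh.pullPushAdj b)).ofNatIsoRight (EtCoh.pushComp a b))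

theorem unit_pullCompIso {A B C : Scheme.{u}} (a : B ⟶ A) (b : C ⟶ B) (F : EtCoh.Ab A) :
    (EtCoh.pullPushAdj (b ≫ a)).unit.app F ≫ (EtCoh.push (b ≫ a)).map ((pullCompIso a b).hom.app F) =
      (EtCoh.pullPushAdj a).unit.app F ≫ (EtCoh.push a).map ((EtCoh.pullPushAdj b).unit.app
        ((EtCoh.pull a).obj F)) ≫ (EtCoh.pushComp a b).hom.app _ := by
  refine (Adjunction.unit_leftAdjointUniq_hom_app (EtCoh.pullPushAdj (b ≫ a))
    (((EtCoh.pullPushAdj a).comp (EtCoh.pullPushAdj b)).ofNatIsoRight (EtCoh.pushComp a b)) F).trans ?_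
  simp only [Adjunction.ofNatIsoRight, Adjunction.mkOfHomEquiv, Adjunction.comp]
  simp

/-- The sheaf-level base change morphism of a composite rectangle. -/
theorem baseChange0_vcomp (F : EtCoh.Ab T) :
    EtCoh.baseChange0 g (i ≫ f) j (k ≫ e) w F ≫ (EtCoh.push j).map ((pullCompIso e k).hom.app F) =
      (pullCompIso f i).hom.app ((EtCoh.push g).obj F) ≫
        (EtCoh.pull i).map (EtCoh.baseChange0 g f h e w₁ F) ≫
          EtCoh.baseChange0 h i j k w₂ ((EtCoh.pull e).obj F) := by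
  let G := (EtCoh.pull e).obj F
  let adjP := ((EtCoh.pullPushAdj f).comp (EtCoh.pullPushAdj i)).ofNatIsoRight (EtCoh.pushComp f i)
  apply ((EtCoh.pullPushAdj (i ≫ f)).homEquiv _ _).injective
  refine ((Adjunction.homEquiv_naturality_right _ _ _).trans ?_).trans
    (homEquiv_leftAdjointUniq_comp (EtCoh.pullPushAdj (i ≫ f)) adjP _).symm
  refine Eq.trans ?_ (Adjunction.homEquiv_ofNatIsoRight_apply _ _ _).symm
  rw [Adjunction.comp_homEquiv]
  simp only [EtCoh.baseChange0, Equiv.apply_symm_apply]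
  rw [Equiv.trans]
  refine Eq.trans ?_ (congrArg (fun m => m ≫ (EtCoh.pushComp f i).hom.app _)
    (show _ = (EtCoh.pullPushAdj f).homEquiv _ _ ((EtCoh.pullPushAdj i).homEquiv _ _ _) from rfl)).symm
  erw [Adjunction.homEquiv_naturality_left, Equiv.apply_symm_apply, Adjunction.homEquiv_naturality_right,
    Equiv.apply_symm_apply]
  change ((EtCoh.push g).map _ ≫ (sqNat g (i ≫ f) j (k ≫ e) w).hom.app _) ≫ _ =
    (((EtCoh.push g).map _ ≫ (sqNat g f h e w₁).hom.app _) ≫
      (EtCoh.push f).map ((EtCoh.push h).map _ ≫ (sqNat h i j k w₂).hom.app _)) ≫ _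
  simp only [Category.assoc]
  erw [← (sqNat g (i ≫ f) j (k ≫ e) w).hom.naturality ((pullCompIso e k).hom.app F)]
  simp only [Functor.comp_map]
  rw [← Functor.map_comp_assoc, unit_pullCompIso e k F, Functor.map_comp, Functor.map_comp,
    Category.assoc, Category.assoc]
  erw [sqNat_vcomp f g h e w₁ i j k w₂ w ((EtCoh.pull k).obj G)]
  rw [Functor.map_comp, Category.assoc]
  refine congrArg (_ ≫ ·) ?_
  exact (reassoc_of% (sqNat g f h e w₁).hom.naturality ((EtCoh.pullPushAdj k).unit.app G)) _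

/-- The base change morphism on complexes of a composite rectangle. -/
theorem exists_bc0H_vcomp (K : HomotopyCategory (EtCoh.Ab T) (ComplexShape.up ℤ)) :
    ∃ (σ : (pullH (k ≫ e)).obj K ≅ (pullH k).obj ((pullH e).obj K))
      (τ : (pullH (i ≫ f)).obj ((pushH g).obj K) ≅ (pullH i).obj ((pullH f).obj ((pushH g).obj K))),
      bc0H g (i ≫ f) j (k ≫ e) w K ≫ (pushH j).map σ.hom =
        τ.hom ≫ (pullH i).map (bc0H g f h e w₁ K) ≫ bc0H h i j k w₂ ((pullH e).obj K) := by
  let c := ComplexShape.up ℤ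
  let σC := HomologicalComplex.Hom.isoOfComponents
    (C₁ := ((EtCoh.pull (k ≫ e)).mapHomologicalComplex c).obj K.as)
    (C₂ := ((EtCoh.pull k).mapHomologicalComplex c).obj (((EtCoh.pull e).mapHomologicalComplex c).obj K.as))
    (fun n => (pullCompIso e k).app (K.as.X n)) (fun p q _ => ((pullCompIso e k).hom.naturality (K.as.d p q)).symm)
  let τC := HomologicalComplex.Hom.isoOfComponents
    (C₁ := ((EtCoh.pull (i ≫ f)).mapHomologicalComplex c).obj (((EtCoh.push g).mapHomologicalComplex c).obj K.as))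
    (C₂ := ((EtCoh.pull i).mapHomologicalComplex c).obj (((EtCoh.pull f).mapHomologicalComplex c).obj
      (((EtCoh.push g).mapHomologicalComplex c).obj K.as)))
    (fun n => (pullCompIso f i).app ((EtCoh.push g).obj (K.as.X n)))
    (fun p q _ => ((pullCompIso f i).hom.naturality ((EtCoh.push g).map (K.as.d p q))).symm)
  refine ⟨(HomotopyCategory.quotient _ _).mapIso σC, (HomotopyCategory.quotient _ _).mapIso τC, ?_⟩
  refine ((HomotopyCategory.quotient _ _).map_comp
    ((NatTrans.mapHomologicalComplex (bc0N g (i ≫ f) j (k ≫ e) w) c).app K.as)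
    (((EtCoh.push j).mapHomologicalComplex c).map σC.hom)).symm.trans ?_
  refine Eq.trans ?_ (congrArg ((HomotopyCategory.quotient _ _).map τC.hom ≫ ·)
    ((HomotopyCategory.quotient _ _).map_comp
      (((EtCoh.pull i).mapHomologicalComplex c).map
        ((NatTrans.mapHomologicalComplex (bc0N g f h e w₁) c).app K.as))
      ((NatTrans.mapHomologicalComplex (bc0N h i j k w₂) c).app
        (((EtCoh.pull e).mapHomologicalComplex c).obj K.as))))
  refine Eq.trans ?_ ((HomotopyCategory.quotient _ _).map_comp _ _)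
  refine congrArg (HomotopyCategory.quotient _ _).map (HomologicalComplex.hom_ext _ _ fun n => ?_)
  exact baseChange0_vcomp f g h e w₁ i j k w₂ w (K.as.X n)

end Sheaf

variable {X S Y T W Z : Scheme.{u}} (f : X ⟶ S) (g : T ⟶ S) (h : Y ⟶ X) (e : Y ⟶ T) (w₁ : e ≫ g = h ≫ f)
  (i : W ⟶ X) (j : Z ⟶ W) (k : Z ⟶ Y) (w₂ : k ≫ h = j ≫ i)
  [PreservesFiniteLimits (EtCoh.pull i)] [PreservesFiniteLimits (EtCoh.pull k)]
  [DCoh.HasRpushEt W i] [DCoh.HasRpushEt Y h] [DCoh.HasRpushEt Z j]

/-- If the base change morphism of the upper square at `e⁻¹ K` is an isomorphism, then `θ` of the composite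
rectangle is an isomorphism iff the inverse image of `θ` of the lower square is one. -/
theorem isIso_θ_vcomp_iff {n : W ⟶ S} (hn : i ≫ f = n) {m : Z ⟶ T} (hm : k ≫ e = m) (w : m ≫ g = j ≫ n)
    (a₂ : EtBC.pullD i ⊣ DCoh.RpushEt W i)
    (K : HomotopyCategory (EtCoh.Ab T) (ComplexShape.up ℤ))
    (h2 : IsIso (EtBC.bcMap h i j k w₂ a₂ (DerivedCategory.Qh.obj ((pullH e).obj K)))) :
    IsIso (θ g n j m w K) ↔ IsIso ((EtBC.pullD i).map (θ g f h e w₁ K)) := by
  subst hn hm
  obtain ⟨σ, τ, hστ⟩ := exists_bc0H_vcomp f g h e w₁ i j k w₂ w K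
  obtain ⟨a', ha'⟩ := exists_adj h i j k w₂
  haveI : IsIso (EtBC.bcMap h i j k w₂ a' (DerivedCategory.Qh.obj ((pullH e).obj K))) :=
    (isIso_bcMap_congr h i j k w₂ a₂ a' (Iso.refl _)).1 h2
  have hA : θ g (i ≫ f) j (k ≫ e) w K ≫ (DCoh.RpushEt Z j).map (DerivedCategory.Qh.map σ.hom) =
      DerivedCategory.Qh.map τ.hom ≫ DerivedCategory.Qh.map ((pullH i).map (bc0H g f h e w₁ K)) ≫
        θ h i j k w₂ ((pullH e).obj K) := by
    have hnat := (unitR j).naturality σ.hom
    simp only [θ, Category.assoc]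
    refine (congrArg (DerivedCategory.Qh.map (bc0H g (i ≫ f) j (k ≫ e) w K) ≫ ·) hnat.symm).trans ?_
    refine (Category.assoc _ _ _).symm.trans ?_
    refine (congrArg (· ≫ _) ((DerivedCategory.Qh.map_comp _ _).symm.trans
      (congrArg DerivedCategory.Qh.map hστ))).trans ?_
    simp only [Functor.map_comp, Category.assoc]
  have hB : (EtBC.pullD i).map (θ g f h e w₁ K) ≫
      EtBC.bcMap h i j k w₂ a' (DerivedCategory.Qh.obj ((pullH e).obj K)) =
      (EtCoh.pull i).mapDerivedCategoryFactorsh.hom.app ((pullH f).obj ((pushH g).obj K)) ≫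
        (DerivedCategory.Qh.map ((pullH i).map (bc0H g f h e w₁ K)) ≫ θ h i j k w₂ ((pullH e).obj K)) ≫
          (DCoh.RpushEt Z j).map ((EtCoh.pull k).mapDerivedCategoryFactorsh.inv.app ((pullH e).obj K)) := by
    have hnat := (EtCoh.pull i).mapDerivedCategoryFactorsh.hom.naturality (bc0H g f h e w₁ K)
    rw [show θ g f h e w₁ K = DerivedCategory.Qh.map (bc0H g f h e w₁ K) ≫ (unitR h).app ((pullH e).obj K)
      from rfl, Functor.map_comp]
    refine (Category.assoc _ _ _).trans ?_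
    refine (congrArg (_ ≫ ·) (ha' ((pullH e).obj K))).trans ?_
    refine (Category.assoc _ _ _).symm.trans ((congrArg (· ≫ _) hnat).trans ?_)
    simp only [Category.assoc, Functor.comp_map]
  rw [← isIso_comp_right_iff (θ g (i ≫ f) j (k ≫ e) w K) ((DCoh.RpushEt Z j).map (DerivedCategory.Qh.map σ.hom)),
    hA, isIso_comp_left_iff, ← isIso_comp_right_iff _
      ((DCoh.RpushEt Z j).map ((EtCoh.pull k).mapDerivedCategoryFactorsh.inv.app ((pullH e).obj K))),
    ← isIso_comp_left_iff ((EtCoh.pull i).mapDerivedCategoryFactorsh.hom.app ((pullH f).obj ((pushH g).obj K))),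
    ← hB, isIso_comp_right_iff]

end Groth.Agent.BCDLib
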